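import Groth.Agent.KGrLib.Ch
import Groth.Agent.LambdaSpL.PosInv
import Mathlib

/-!
# Adams operations on a dual positive element, in the weight decomposition
-/

set_option autoImplicit false
set_option linter.all false
set_option synthInstance.maxHeartbeats 200000

universe u

open LambdaRing LambdaSpLib KGrLib Finset fwdDiff
open scoped TensorProduct

noncomputable section

namespace Groth.Agent.KGrInvLib

variable {K : Type u} [CommRing K] [LambdaOps K] (P : PosStructure K) (hP : HasSplitting K P)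
  {d : ℕ} (hd : gammaFiltration P (d + 1) = ⊥)

include hP hd in
theorem exists_weights (e : K) : ∃ v : ℕ → ℚ ⊗[ℤ] K, (∀ r, v r ∈ eig P r) ∧
    v 0 = (1 : ℚ) ⊗ₜ[ℤ] ((P.aug e : K)) ∧
    ∀ i : ℕ, 1 ≤ i → (1 : ℚ) ⊗ₜ[ℤ] adams P i e = ∑ r ∈ range (d + 1), ((i : ℚ) ^ r) • v r := by
  have hmem : (1 : ℚ) ⊗ₜ[ℤ] e ∈ ⨆ m ∈ range (d + 1), eig P m := by rw [iSup_eig P hd hP]; trivial
  obtain ⟨c, hc⟩ := (Submodule.mem_iSup_finset_iff_exists_sum _ _).mp hmem
  refine ⟨fun r => (c r : ℚ ⊗[ℤ] K), fun r => (c r).2, ?_, fun i hi => ?_⟩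
  · rw [← sub_eq_zero]
    refine (Submodule.eq_bot_iff _).mp (eigen_inf_qF P hP 2 (psiQ P 2) (fun z => psiQ_tmul P 2 z) hd le_rfl 0) _
      ⟨?_, ?_⟩
    · refine sub_mem (by simpa [eig] using (c 0).2) ?_
      refine Module.End.mem_eigenspace_iff.mpr ?_
      rw [psiQ_tmul, ← adamsRingHom_apply P hP, map_intCast]
      simp
    · have h1 : (1 : ℚ) ⊗ₜ[ℤ] (e - (P.aug e : K)) ∈ qF P 1 := tmul_mem_qF P (mem_gf_one P (by simp)) 1
      rw [TensorProduct.tmul_sub, ← hc, Finset.sum_range_succ', add_sub_assoc] at h1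
      refine (Submodule.add_mem_iff_right _ (Submodule.sum_mem _ fun r _ => ?_)).mp h1
      exact qF_anti P (by omega) (eigen_le_qF P hP 2 (psiQ P 2) (fun z => psiQ_tmul P 2 z) le_rfl (r + 1)
        (by simpa [eig] using (c (r + 1)).2))
  · rw [← psiQ_tmul, ← hc, map_sum]
    refine Finset.sum_congr rfl fun r _ => ?_
    rcases eq_or_lt_of_le hi with rfl | hi'
    · have h1 : psiQ P 1 = LinearMap.id := by
        refine TensorProduct.AlgebraTensorModule.ext fun q x => ?_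
        rw [show q ⊗ₜ[ℤ] x = q • ((1 : ℚ) ⊗ₜ[ℤ] x) by rw [TensorProduct.smul_tmul', smul_eq_mul, mul_one],
          map_smul, psiQ_tmul, adams_succ_eq, adamsOp_one_apply]
        rfl
      rw [h1]; simp
    · exact Module.End.mem_eigenspace_iff.mp
        (eigen_le_eigen P hP 2 (psiQ P 2) hd le_rfl hi' (psiQ P i) (fun y => psiQ_tmul P 2 y)
          (fun y => psiQ_tmul P i y) r (by simpa [eig] using (c r).2))

variable {inv : K → K} (hV : IsInvolution P inv) (hS : HasInvSplitting P inv)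

/-- Integral powers of a line with a prescribed inverse. -/
def zp {R : Type*} [CommRing R] (u w : R) (z : ℤ) : R := if 0 ≤ z then u ^ z.toNat else w ^ (-z).toNat

theorem zp_succ {R : Type*} [CommRing R] {u w : R} (h : w * u = 1) (z : ℤ) : zp u w (z + 1) = u * zp u w z := by
  rcases le_or_gt 0 z with hz | hz
  · rw [zp, zp, if_pos hz, if_pos (by omega), show (z + 1).toNat = z.toNat + 1 by omega, pow_succ']
  · obtain ⟨n, rfl⟩ : ∃ n : ℕ, z = -((n : ℤ) + 1) := ⟨(-z - 1).toNat, by omega⟩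
    rw [zp, zp, if_neg (show ¬ (0 : ℤ) ≤ -((n : ℤ) + 1) by omega), show (- -((n : ℤ) + 1)).toNat = n + 1 by omega,
      pow_succ', ← mul_assoc, mul_comm u w, h, one_mul]
    split_ifs with h0
    · obtain rfl : n = 0 := by omega
      simp
    · congr 1; omega

theorem zp_add {R : Type*} [CommRing R] {u w : R} (h : w * u = 1) (z : ℤ) (k : ℕ) :
    zp u w (z + k) = u ^ k * zp u w z := by
  induction k with
  | zero => simp
  | succ k ih => rw [Nat.cast_succ, ← add_assoc, zp_succ h, ih, pow_succ']; ring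

/-- Adams operations of all integral orders. -/
def adamsZ (inv : K → K) (e : K) (z : ℤ) : K :=
  if 0 ≤ z then adams P z.toNat e else adams P (-z).toNat (inv e)

include hV hS in
theorem adamsZ_rec {e : K} (he : e ∈ P.pos) (s : ℤ) :
    ∑ k ∈ range ((P.aug e).toNat + 1), (-1 : K) ^ k * LambdaOps.lam k e *
      adamsZ P inv e (s + ((P.aug e).toNat - k : ℕ)) = 0 := by
  obtain ⟨L, inv', f, hf, hV', hc, t, ht, hte⟩ := hS e he
  have hm : (P.aug e).toNat = t.card := by rw [← hf.aug_comp]; exact card_of_sum ht hte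
  have hz : ∀ z, f (adamsZ P inv e z) = (t.map fun u => zp u (inv' u) z).sum := by
    intro z
    rcases le_or_gt 0 z with hz | hz
    · rw [adamsZ, if_pos hz, adams_map hf, ← hte, adams_sum_lines ht]
      simp only [zp, if_pos hz]
    · rw [adamsZ, if_neg (by omega), adams_map hf, hc, ← hte, ← invHom_apply L.posStr hV', map_multiset_sum,
        adams_sum_lines (fun u hu => by
          obtain ⟨w, hw, rfl⟩ := Multiset.mem_map.1 hu
          exact hV'.inv_line w (ht w hw)), Multiset.map_map]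
      simp only [zp, if_neg (not_le.mpr hz)]
      rfl
  have hlam : ∀ k, f (LambdaOps.lam k e) = t.esymm k := fun k => by
    rw [hf.isLambdaHom, ← hte, lam_sum_lines (fun u hu => line_lam (ht u hu))]
  apply hf.injective
  simp only [map_sum, map_mul, map_pow, map_neg, map_one, map_zero, hlam, hz, ← Multiset.sum_map_mul_left]
  rw [← Multiset.sum_map_sum]
  refine Multiset.sum_eq_zero fun x hx => ?_
  obtain ⟨u, hu, rfl⟩ := Multiset.mem_map.1 hx
  simp only [zp_add (hV'.inv_mul_self u (ht u hu)), ← mul_assoc, ← Finset.sum_mul]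
  refine mul_eq_zero_of_left ?_ _
  have h := congrArg (Polynomial.eval u) (Multiset.prod_X_sub_X_eq_sum_esymm t)
  rw [Polynomial.eval_multiset_prod, Multiset.map_map,
    Multiset.prod_eq_zero (Multiset.mem_map.mpr ⟨u, hu, by simp⟩)] at h
  rw [hm]
  simpa [Polynomial.eval_finsetSum, mul_assoc] using h.symm

theorem eq_zero_of_nat {V : Type*} [AddCommGroup V] [Module ℚ V] {ι : Type*} (S : Finset ι)
    (a : ι → V) (c : ι → ℚ) (r : ι → ℕ)
    (h : ∀ n : ℕ, ∑ i ∈ S, (((n : ℚ) + c i) ^ r i) • a i = 0) (z : ℚ) :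
    ∑ i ∈ S, ((z + c i) ^ r i) • a i = 0 := by
  refine (Module.forall_dual_apply_eq_zero_iff ℚ _).mp fun φ => ?_
  let p : Polynomial ℚ := ∑ i ∈ S, (Polynomial.X + Polynomial.C (c i)) ^ r i * Polynomial.C (φ (a i))
  have hp : ∀ y : ℚ, p.eval y = φ (∑ i ∈ S, ((y + c i) ^ r i) • a i) := fun y => by
    simp [p, Polynomial.eval_finsetSum]
  have h0 : p = 0 := by
    refine Polynomial.eq_zero_of_infinite_isRoot p (Set.Infinite.mono ?_ (Set.infinite_range_of_injective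
      (Nat.cast_injective (R := ℚ))))
    rintro _ ⟨n, rfl⟩
    change p.eval (n : ℚ) = 0
    rw [hp, h, map_zero]
  rw [← hp, h0, Polynomial.eval_zero]

include hP hd hV hS in
/-- The weights of the dual are `(-1)^r` times those of the element. -/
theorem exists_weights_inv {e : K} (he : e ∈ P.pos) : ∃ v : ℕ → ℚ ⊗[ℤ] K, (∀ r, v r ∈ eig P r) ∧
    v 0 = (1 : ℚ) ⊗ₜ[ℤ] ((P.aug e : K)) ∧
    (∀ i : ℕ, 1 ≤ i → (1 : ℚ) ⊗ₜ[ℤ] adams P i e = ∑ r ∈ range (d + 1), ((i : ℚ) ^ r) • v r) ∧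
    ∀ i : ℕ, 1 ≤ i → (1 : ℚ) ⊗ₜ[ℤ] adams P i (inv e) = ∑ r ∈ range (d + 1), ((-(i : ℚ)) ^ r) • v r := by
  obtain ⟨v, hv, hv0, hvi⟩ := exists_weights P hP hd e
  refine ⟨v, hv, hv0, hvi, ?_⟩
  set m := (P.aug e).toNat with hm
  let D : ℤ → ℚ ⊗[ℤ] K := fun z =>
    (1 : ℚ) ⊗ₜ[ℤ] adamsZ P inv e z - ∑ r ∈ range (d + 1), ((z : ℚ) ^ r) • v r
  have hnat : ∀ n : ℕ, D n = 0 := fun n => by
    simp only [D, adamsZ, if_pos (Int.natCast_nonneg n), Int.toNat_natCast, Int.cast_natCast]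
    rcases Nat.eq_zero_or_pos n with rfl | hn
    · rw [adams_zero_eq, Finset.sum_range_succ', sub_eq_zero]
      simp [hv0]
    · rw [hvi n hn, sub_self]
  let L : ℕ → ℚ ⊗[ℤ] K := fun k => (1 : ℚ) ⊗ₜ[ℤ] ((-1 : K) ^ k * LambdaOps.lam k e)
  have hA : ∀ s : ℤ, ∑ k ∈ range (m + 1), L k * ((1 : ℚ) ⊗ₜ[ℤ] adamsZ P inv e (s + (m - k : ℕ))) = 0 := fun s => by
    simp only [L, Algebra.TensorProduct.tmul_mul_tmul, one_mul]
    rw [← TensorProduct.tmul_sum, adamsZ_rec P hV hS he s, TensorProduct.tmul_zero]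
  let R : ℚ → ℚ ⊗[ℤ] K := fun y => ∑ x ∈ range (m + 1) ×ˢ range (d + 1),
    ((y + ((m - x.1 : ℕ) : ℚ)) ^ x.2) • (L x.1 * v x.2)
  have hR : ∀ s : ℤ, ∑ k ∈ range (m + 1), L k * D (s + (m - k : ℕ)) = -R s := fun s => by
    simp only [D, mul_sub, Finset.sum_sub_distrib, hA, zero_sub, R, Finset.sum_product, Finset.mul_sum,
      mul_smul_comm, Int.cast_add, Int.cast_natCast]
  have hR0 : ∀ y, R y = 0 := fun y => eq_zero_of_nat _ _ _ _ (fun n => by
    have h := hR (n : ℤ)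
    simp only [← Nat.cast_add, hnat, mul_zero, Finset.sum_const_zero, Int.cast_natCast] at h
    exact neg_eq_zero.mp h.symm) y
  have hu : IsUnit (L m) := by
    have h1 : IsUnit ((-1 : K) ^ m * LambdaOps.lam m e) := (isUnit_one.neg.pow m).mul (P.isUnit_lam e he)
    exact h1.map (Algebra.TensorProduct.includeRight : K →ₐ[ℤ] ℚ ⊗[ℤ] K)
  have hneg : ∀ n : ℕ, D (-(n : ℤ)) = 0 := by
    intro n
    induction n using Nat.strong_induction_on with
    | h n ih =>
      have h := hR (-(n : ℤ))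
      rw [hR0, neg_zero, Finset.sum_range_succ, Finset.sum_eq_zero, zero_add, Nat.sub_self, Nat.cast_zero,
        add_zero] at h
      · exact hu.mul_right_eq_zero.mp h
      intro k hk
      simp only [Finset.mem_range] at hk
      rcases le_or_gt n (m - k) with hle | hlt
      · rw [show -(n : ℤ) + ((m - k : ℕ) : ℤ) = ((m - k - n : ℕ) : ℤ) by omega, hnat, mul_zero]
      · rw [show -(n : ℤ) + ((m - k : ℕ) : ℤ) = -((n - (m - k) : ℕ) : ℤ) by omega, ih _ (by omega), mul_zero]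
  intro i hi
  have h := sub_eq_zero.mp (hneg i)
  simp only [adamsZ, if_neg (show ¬ (0 : ℤ) ≤ -(i : ℤ) by omega), neg_neg, Int.toNat_natCast] at h
  simpa using h

include hP in
theorem qsum_sub_mem (y : K) (w : ℕ → ℚ ⊗[ℤ] K) (hw : ∀ r, w r ∈ qF P r)
    (h0 : w 0 = (1 : ℚ) ⊗ₜ[ℤ] ((P.aug y : K)))
    (hi : ∀ i : ℕ, 1 ≤ i → (1 : ℚ) ⊗ₜ[ℤ] adams P i y = ∑ r ∈ range (d + 1), ((i : ℚ) ^ r) • w r)
    (n : ℕ) (hn : 1 ≤ n) (hnd : n ≤ d) :
    (1 : ℚ) ⊗ₜ[ℤ] qsum P y n - (n.factorial : ℚ) • w n ∈ qF P (n + 1) := by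
  have hf : ∀ i : ℕ, (1 : ℚ) ⊗ₜ[ℤ] adams P i (y - (P.aug y : K)) = ∑ r ∈ range d, ((i : ℚ) ^ (r + 1)) • w (r + 1) := by
    intro i
    rw [← adamsRingHom_apply P hP, map_sub, map_intCast, adamsRingHom_apply, TensorProduct.tmul_sub]
    rcases Nat.eq_zero_or_pos i with rfl | hi0
    · rw [adams_zero_eq]; simp
    · rw [hi i hi0, Finset.sum_range_succ', ← h0]; simp
  have hq : (1 : ℚ) ⊗ₜ[ℤ] qsum P y n = ∑ r ∈ range d, ((fwdDiff (1 : ℚ))^[n] (fun x : ℚ => x ^ (r + 1)) 0) • w (r + 1) := by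
    rw [qsum_eq_fwdDiff P y n hn, fwdDiff_iter_eq_sum_shift, TensorProduct.tmul_sum]
    simp only [TensorProduct.tmul_smul, hf, Finset.smul_sum, fwdDiff_iter_eq_sum_shift, Finset.sum_smul]
    rw [Finset.sum_comm]
    refine Finset.sum_congr rfl fun r _ => Finset.sum_congr rfl fun i _ => ?_
    rw [← Int.cast_smul_eq_zsmul ℚ, smul_smul]
    simp
  rw [hq, ← Finset.add_sum_erase _ _ (Finset.mem_range.mpr (show n - 1 < d by omega)), show n - 1 + 1 = n by omega,
    fwdDiff_iter_eq_factorial]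
  simp only [Pi.natCast_apply, add_sub_cancel_left]
  refine Submodule.sum_mem _ fun r hr => ?_
  simp only [Finset.mem_erase, Finset.mem_range, ne_eq] at hr
  rcases lt_or_gt_of_ne (show r + 1 ≠ n by omega) with h | h
  · rw [fwdDiff_iter_pow_eq_zero_of_lt h]
    simp
  · exact Submodule.smul_mem _ _ (qF_anti P (by omega) (hw (r + 1)))

include hP hd hV hS in
/-- The Chern character of `ψ^j` of the dual. -/
theorem chK_adams_inv {e : K} (he : e ∈ P.pos) (j : ℕ) (hj : 1 ≤ j) :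
    KGr.chK P d (adams P j (inv e)) = algebraMap ℚ (KGr.Gr P) (P.aug e) +
      ∑ k ∈ range d, ((-(j : ℚ)) ^ (k + 1) / ((k + 1).factorial : ℚ)) • gSeq (cser P e) (k + 1) := by
  obtain ⟨v, hv, hv0, hvi, hvn⟩ := exists_weights_inv P hP hd hV hS he
  have haug : P.aug (adams P j (inv e)) = P.aug e := by rw [aug_adams P hP, hV.aug_inv]
  rw [chK_eq P hd, haug]
  congr 1
  refine Finset.sum_congr rfl fun k hk => ?_
  simp only [Finset.mem_range] at hk
  have hq : ∀ r, v r ∈ qF P r := fun r =>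
    eigen_le_qF P hP 2 (psiQ P 2) (fun z => psiQ_tmul P 2 z) le_rfl r (by simpa [eig] using hv r)
  have h1 := qsum_sub_mem P hP e v hq hv0 hvi (k + 1) (by omega) hk
  have h2 := qsum_sub_mem P hP (adams P j (inv e)) (fun r => ((-(j : ℚ)) ^ r) • v r)
    (fun r => Submodule.smul_mem _ _ (hq r)) (by rw [haug]; simp [hv0]) (d := d) (fun i hi => by
      rw [adams_comp P hP, hvn (i * j) (Nat.mul_pos hi hj)]
      refine Finset.sum_congr rfl fun r _ => ?_
      rw [smul_smul, ← mul_pow]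
      congr 2
      push_cast; ring) (k + 1) (by omega) hk
  have h3 : KGr.grK P ((k + 1 : ℕ) : ℤ)
      (qsum P (adams P j (inv e)) (k + 1) - ((-(j : ℤ)) ^ (k + 1)) • qsum P e (k + 1)) = 0 := by
    refine grK_eq_zero_of_tmul P (sub_mem (qsum_mem P _ _) (zsmul_mem (qsum_mem P _ _) _)) ?_
    rw [TensorProduct.tmul_sub, TensorProduct.tmul_smul, ← Int.cast_smul_eq_zsmul ℚ]
    have h4 := sub_mem h2 (Submodule.smul_mem _ ((-(j : ℚ)) ^ (k + 1)) h1)
    rw [smul_sub, smul_smul, smul_smul, mul_comm ((k + 1).factorial : ℚ), sub_sub_sub_cancel_right] at h4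
    simpa using h4
  rw [grK_eq P (sub_mem (qsum_mem P _ _) (zsmul_mem (qsum_mem P _ _) _))] at h3
  have h5 : KGr.grK P ((k + 1 : ℕ) : ℤ) (qsum P (adams P j (inv e)) (k + 1)) =
      ((-(j : ℤ)) ^ (k + 1)) • KGr.grK P ((k + 1 : ℕ) : ℤ) (qsum P e (k + 1)) := by
    rw [grK_eq P (qsum_mem P _ _), grK_eq P (qsum_mem P _ _), ← sub_eq_zero, ← map_zsmul, ← map_sub]
    exact h3
  rw [← NewtonRel.p_unique (cser_zero P _) (newtonRel_cser P _) (newtonRel_gSeq (cser_zero P _)) (k + 1) (by omega),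
    ← NewtonRel.p_unique (cser_zero P e) (newtonRel_cser P e) (newtonRel_gSeq (cser_zero P e)) (k + 1) (by omega),
    h5, ← Int.cast_smul_eq_zsmul ℚ, smul_smul]
  congr 1
  push_cast
  ring

end Groth.Agent.KGrInvLib
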