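import Groth.Agent.KGrInvLib.Universal
import Groth.Agent.KGrInvLib.Seq
import Groth.Agent.S8140

/-!
# `td(e) ch(λ₋₁ e^∨) = c_top(e)`
-/

set_option autoImplicit false
set_option linter.all false
set_option synthInstance.maxHeartbeats 200000

universe u

open LambdaRing LambdaSpLib KGrLib Finset

noncomputable section

namespace Groth.Agent.KGrInvLib

variable {K : Type u} [CommRing K] [LambdaOps K] (P : PosStructure K) (hP : HasSplitting K P)
  {d : ℕ} (hd : gammaFiltration P (d + 1) = ⊥)

/-- Substitution of the Chern classes. -/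
def theta (m : ℕ) (e : K) : MvPolynomial (Fin m) ℚ →ₐ[ℚ] KGr.Gr P :=
  MvPolynomial.aeval fun i : Fin m => KGr.chern P (i.1 + 1) e

/-- The classes in degree `n`. -/
def InCls (n : ℕ) (z : KGr.Gr P) : Prop := ∃ a : gammaFiltration P n, z = cls P n a

theorem inCls_one : InCls P 0 1 := by
  have h1 : (1 : K) ∈ gammaFiltration P 0 := by rw [gf_zero]; trivial
  exact ⟨⟨1, h1⟩, (cls_one P h1).symm⟩

theorem InCls.mul {a b : ℕ} {z w : KGr.Gr P} (hz : InCls P a z) (hw : InCls P b w) : InCls P (a + b) (z * w) := by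
  obtain ⟨⟨x, hx⟩, rfl⟩ := hz
  obtain ⟨⟨y, hy⟩, rfl⟩ := hw
  exact ⟨⟨x * y, gf_mul P hx hy⟩, cls_mul P hx hy⟩

theorem inCls_chern (i : ℕ) (e : K) : InCls P i (KGr.chern P i e) :=
  ⟨⟨gser P e i, gser_mem P e i⟩, (cser_eq P e i).trans (grK_eq P _)⟩

theorem inCls_pow {n : ℕ} {z : KGr.Gr P} (hz : InCls P n z) : ∀ k, InCls P (k * n) (z ^ k)
  | 0 => by rw [Nat.zero_mul, pow_zero]; exact inCls_one P
  | k + 1 => by rw [Nat.succ_mul, pow_succ]; exact (inCls_pow hz k).mul P hz

theorem exists_cls_monomial (m : ℕ) (e : K) (f : Fin m →₀ ℕ) :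
    InCls P (wt m f) (theta P m e (MvPolynomial.monomial f 1)) := by
  induction f using Finsupp.induction with
  | zero =>
    rw [MvPolynomial.monomial_zero', map_one, map_one, show wt m (0 : Fin m →₀ ℕ) = 0 from Finsupp.sum_zero_index]
    exact inCls_one P
  | single_add i k f hif hk ih =>
    have hw : wt m (Finsupp.single i k + f) = k * (i.1 + 1) + wt m f := by
      rw [wt, Finsupp.sum_add_index' (fun a => zero_mul _) (fun a b c => add_mul _ _ _), Finsupp.sum_single_index (zero_mul _)]
      rfl
    rw [hw, MvPolynomial.monomial_single_add, map_mul, map_pow, theta, MvPolynomial.aeval_X, ← theta]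
    exact (inCls_pow P (inCls_chern P _ e) k).mul P ih

include hd in
theorem theta_eq_zero_of_dvd (m : ℕ) (e : K) (q : MvPolynomial (Fin m) ℚ)
    (h : (PowerSeries.X : PowerSeries (S m)) ^ (d + 1) ∣ gT m q) : theta P m e q = 0 := by
  rw [MvPolynomial.as_sum q, map_sum]
  refine Finset.sum_eq_zero fun f hf => ?_
  rcases le_or_gt (wt m f) d with hle | hgt
  · exact absurd (coeff_eq_zero_of_dvd d m q h f hle) (MvPolynomial.mem_support_iff.mp hf)
  · obtain ⟨⟨x, hx⟩, he⟩ := exists_cls_monomial P m e f
    have hx0 : x = 0 := by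
      have := gf_anti P hgt hx
      rwa [hd, AddSubgroup.mem_bot] at this
    rw [show MvPolynomial.monomial f (q.coeff f) = q.coeff f • MvPolynomial.monomial f (1 : ℚ) by
      rw [MvPolynomial.smul_monomial, smul_eq_mul, mul_one], map_smul, he]
    subst hx0
    rw [show (⟨0, hx⟩ : gammaFiltration P (wt m f)) = 0 from rfl, map_zero, smul_zero]

include hd in
theorem theta_congr (m : ℕ) (e : K) {p q : MvPolynomial (Fin m) ℚ} (h : mk d m (gT m p) = mk d m (gT m q)) :
    theta P m e p = theta P m e q := by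
  rw [← sub_eq_zero, ← map_sub]
  refine theta_eq_zero_of_dvd P hd m e _ ?_
  rw [map_sub, ← Ideal.mem_span_singleton, ← Ideal.Quotient.eq]
  exact h

/-- The Chern character as a ring map. -/
def chRingHom : K →+* KGr.Gr P where
  toFun := KGr.chK P d
  map_one' := (Groth.Agent.S8140.result K P hP d hd 1 1).2
  map_mul' x y := (Groth.Agent.S8140.result K P hP d hd x y).1
  map_zero' := by simpa using chK_add P hd (0 : K) 0
  map_add' := chK_add P hd

variable {inv : K → K} (hV : IsInvolution P inv) (hS : HasInvSplitting P inv)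

include hP hd hV hS in
theorem tdK_mul_chK_lamAlt_inv {e : K} (he : e ∈ P.pos) :
    KGr.tdK P d e *
        KGr.chK P d (∑ i ∈ range ((P.aug e).toNat + 1), (-1 : K) ^ i * LambdaOps.lam i (inv e)) =
      KGr.chern P (P.aug e).toNat e := by
  set m := (P.aug e).toNat with hm
  have hpos := P.aug_pos e he
  have hm1 : 1 ≤ m := by omega
  have haug : (P.aug e : K) = (m : K) := by
    rw [show P.aug e = (m : ℤ) by omega, Int.cast_natCast]
  have hN : ∀ i, m < i → LambdaOps.lam i e = 0 := fun i hi => P.lam_eq_zero e he i (by omega)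
  have hgser : ∀ i, m < i → gser P e i = 0 := fun i hi => by
    rw [gser, haug]
    exact gamma_sub_rank_eq_zero (lam_one_arg P) hN hi
  have hcv : ∀ i, theta P m e (cVar m i) = cser P e i := fun i => by
    rw [cVar]
    split_ifs with h0 h1
    · subst h0; rw [map_one, cser_zero]
    · rw [theta, MvPolynomial.aeval_X, cser]
      simp only [show i - 1 + 1 = i by omega]
    · rw [map_zero, cser_eq, hgser i (by omega), grK_eq P (zero_mem _)]
      exact (map_zero _).symm
  let ch := chRingHom P hP hd
  have hE : ∀ i, theta P m e (Eq' d m i) = ch (LambdaOps.lam i (inv e)) := by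
    intro i
    change (theta P m e).toRingHom (fSeq (Fq d m) i) = _
    let θr : MvPolynomial (Fin m) ℚ →+* KGr.Gr P := (theta P m e).toRingHom
    refine (map_fSeq (R := MvPolynomial (Fin m) ℚ) (S := KGr.Gr P) θr (Fq d m) i).trans ?_
    refine Eq.trans ?_ (fSeq_eq (E := ch ∘ fun n => LambdaOps.lam n (inv e))
      (by simp [LambdaOps.lam_zero]) (NewtonRel.map (S := KGr.Gr P) (newtonRel_lam (inv e)) ch) i).symm
    refine fSeq_congr fun k hk _ => ?_
    obtain ⟨j, rfl⟩ := Nat.exists_eq_add_of_le' hk
    change theta P m e (Fq d m (j + 1)) = KGr.chK P d (adamsOp (j + 1) (inv e))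
    rw [← adams_succ_eq P, chK_adams_inv P hP hd hV hS he (j + 1) hk, Fq, map_add, map_natCast, map_sum,
      show P.aug e = (m : ℤ) by omega, Int.cast_natCast, map_natCast]
    congr 1
    refine Finset.sum_congr rfl fun l _ => ?_
    rw [map_smul]
    congr 1
    refine (map_gSeq (R := MvPolynomial (Fin m) ℚ) (S := KGr.Gr P) (theta P m e).toRingHom
      (E := cVar m) (by simp [cVar]) (l + 1) (by omega)).trans ?_
    congr 1
    exact funext hcv
  have halt : KGr.chK P d (∑ i ∈ range (m + 1), (-1 : K) ^ i * LambdaOps.lam i (inv e)) =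
      theta P m e (altQ d m) := by
    change ch _ = _
    simp only [altQ, map_sum, map_mul, map_pow, map_neg, map_one, hE]
  have hc : KGr.chern P m e = theta P m e (cVar m m) := (hcv m).symm
  rw [halt, hc]
  rcases le_or_gt m d with hle | hlt
  · have htd : KGr.tdK P d e = theta P m e (resQ d m (KGr.toddPoly d)) := by
      rw [KGr.tdK]
      refine AlgHom.congr_fun (φ₂ := (theta P m e).comp (resQ d m)) (MvPolynomial.algHom_ext fun i => ?_) _
      rw [AlgHom.comp_apply, resQ, MvPolynomial.aeval_X, MvPolynomial.aeval_X, hcv]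
      rfl
    rw [htd, ← map_mul]
    obtain ⟨k, hk⟩ := Nat.exists_eq_add_of_le hle
    exact theta_congr P hd m e (mk_key d m k hk hm1)
  · rw [hcv, cser_eq_zero P hd e m hlt, theta_congr P hd m e (q := 0)
      (by rw [mk_alt_eq_zero d m hlt, map_zero, map_zero]), map_zero, mul_zero]

end Groth.Agent.KGrInvLib
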