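import Groth.Agent.LambdaSpL.PosStr
import Groth.Agent.LambdaSpL.Special
import Groth.Agent.LambdaSpL.Universal
import Groth.Agent.LambdaSpL.PosInv
import Groth.Prelude.Def_KGr
import Mathlib

/-!
# The universal identity `td · ch(λ₋₁ dual) = c_top`
-/

set_option autoImplicit false
set_option linter.all false

open Finset LambdaSpLib PowerSeries

noncomputable section

namespace Groth.Agent.KGrInvLib

variable (d m : ℕ)

/-- The ring of roots. -/
abbrev S : Type := MvPolynomial (Fin m) ℚ

/-- The elementary symmetric variables `c_0 = 1, c_1, …, c_m, 0, …`. -/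
def cVar (i : ℕ) : MvPolynomial (Fin m) ℚ :=
  if i = 0 then 1 else if h : i - 1 < m then MvPolynomial.X ⟨i - 1, h⟩ else 0

/-- Substitution `c_i ↦ t^i e_i(x)`. -/
def gT : MvPolynomial (Fin m) ℚ →ₐ[ℚ] PowerSeries (S m) :=
  MvPolynomial.aeval fun i : Fin m => PowerSeries.C (MvPolynomial.esymm (Fin m) ℚ (i + 1)) * PowerSeries.X ^ (i.1 + 1)

/-- The roots `t x_a`. -/
def roots : Multiset (PowerSeries (S m)) :=
  (Finset.univ : Finset (Fin m)).val.map fun a => PowerSeries.C (MvPolynomial.X a : S m) * PowerSeries.X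

theorem esymm_roots (i : ℕ) :
    (roots m).esymm i = PowerSeries.C (MvPolynomial.esymm (Fin m) ℚ i) * PowerSeries.X ^ i := by
  rw [MvPolynomial.esymm_eq_multiset_esymm, LambdaSpLib.map_multiset_esymm, mul_comm, ← smul_eq_mul,
    Multiset.pow_smul_esymm, roots, Multiset.map_map, Multiset.map_map]
  congr 2
  funext a
  simp [mul_comm]

theorem gT_cVar (i : ℕ) : gT m (cVar m i) = (roots m).esymm i := by
  rw [cVar]
  split_ifs with h0 h1
  · subst h0; simp [esymm_zero']
  · rw [gT, MvPolynomial.aeval_X, esymm_roots]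
    simp only [show i - 1 + 1 = i by omega]
  · rw [map_zero, esymm_eq_zero_of_card_lt]
    simp [roots]
    omega

/-- The weight of a monomial. -/
def wt (f : Fin m →₀ ℕ) : ℕ := f.sum fun i k => k * (i.1 + 1)

theorem gT_monomial (f : Fin m →₀ ℕ) (a : ℚ) : gT m (MvPolynomial.monomial f a) =
    PowerSeries.C ((MvPolynomial.esymmAlgHom (Fin m) ℚ m (MvPolynomial.monomial f a)).val) * PowerSeries.X ^ wt m f := by
  rw [MvPolynomial.esymmAlgHom_apply, gT, MvPolynomial.aeval_monomial, MvPolynomial.aeval_monomial]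
  simp only [mul_pow, Finsupp.prod, Finset.prod_mul_distrib, map_mul, map_prod, map_pow]
  rw [PowerSeries.algebraMap_apply, mul_assoc]
  congr 2
  simp only [← pow_mul, Finset.prod_pow_eq_pow_sum, wt, Finsupp.sum]
  exact congrArg _ (Finset.sum_congr rfl fun i _ => mul_comm _ _)

/-- A polynomial killed by substitution modulo `t^(d+1)` has no monomial of weight `≤ d`. -/
theorem coeff_eq_zero_of_dvd (q : MvPolynomial (Fin m) ℚ) (h : PowerSeries.X ^ (d + 1) ∣ gT m q)
    (f : Fin m →₀ ℕ) (hf : wt m f ≤ d) : q.coeff f = 0 := by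
  classical
  let r : MvPolynomial (Fin m) ℚ := ∑ g ∈ q.support with wt m g = wt m f, MvPolynomial.monomial g (q.coeff g)
  have h0 : PowerSeries.coeff (wt m f) (gT m q) = 0 := PowerSeries.X_pow_dvd_iff.mp h _ (by omega)
  have h1 : PowerSeries.coeff (wt m f) (gT m q) = (MvPolynomial.esymmAlgHom (Fin m) ℚ m r).val := by
    conv_lhs => rw [MvPolynomial.as_sum q]
    simp only [map_sum, gT_monomial, PowerSeries.coeff_C_mul_X_pow, r, AddSubmonoidClass.coe_finset_sum]
    rw [Finset.sum_filter]
    exact Finset.sum_congr rfl fun g _ => if_congr eq_comm rfl rfl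
  have hr : r = 0 := MvPolynomial.esymmAlgHom_injective ℚ (Fintype.card_fin m).ge (Subtype.ext (by
    rw [← h1, h0, map_zero]; rfl))
  have := congrArg (MvPolynomial.coeff f) hr
  simp only [r, MvPolynomial.coeff_sum, MvPolynomial.coeff_monomial, MvPolynomial.coeff_zero,
    Finset.sum_ite_eq', Finset.mem_filter, MvPolynomial.mem_support_iff, and_true] at this
  by_contra hne
  exact hne (by simpa [hne] using this)

/-- Truncation modulo `t^(d+1)`. -/
abbrev mk : PowerSeries (S m) →+* PowerSeries (S m) ⧸ Ideal.span {(PowerSeries.X : PowerSeries (S m)) ^ (d + 1)} :=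
  Ideal.Quotient.mk _

theorem mk_congr {F G : PowerSeries (S m)} (h : ∀ n ≤ d, PowerSeries.coeff n F = PowerSeries.coeff n G) :
    mk d m F = mk d m G := by
  rw [Ideal.Quotient.eq, Ideal.mem_span_singleton, PowerSeries.X_pow_dvd_iff]
  intro n hn
  rw [map_sub, h n (by omega), sub_self]

theorem coeff_trunc_sum (c : ℕ → S m) (n : ℕ) (hn : n ≤ d) :
    PowerSeries.coeff n (∑ k ∈ range (d + 1), PowerSeries.C (c k) * (PowerSeries.X : PowerSeries (S m)) ^ k) = c n := by
  rw [map_sum, sum_eq_single n]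
  · simp [PowerSeries.coeff_C_mul_X_pow]
  · intro k _ hk; simp [PowerSeries.coeff_C_mul_X_pow, Ne.symm hk]
  · intro h; exact absurd (mem_range.mpr (by omega)) h

/-- `exp(-t x)`. -/
def Y (a : Fin m) : PowerSeries (S m) := rescale (-(MvPolynomial.X a : S m)) (PowerSeries.exp (S m))

/-- `β(t x)`. -/
def B (a : Fin m) : PowerSeries (S m) := rescale (MvPolynomial.X a : S m) (bernoulli'PowerSeries (S m))

theorem B_mul_one_sub_Y (a : Fin m) : B m a * (1 - Y m a) = PowerSeries.C (MvPolynomial.X a : S m) * PowerSeries.X := by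
  have h1 : PowerSeries.exp (S m) * rescale (-1 : S m) (PowerSeries.exp (S m)) = 1 := by
    simpa [rescale_one] using exp_mul_exp_eq_exp_add (1 : S m) (-1 : S m)
  have h2 : bernoulli'PowerSeries (S m) * (1 - rescale (-1 : S m) (PowerSeries.exp (S m))) = PowerSeries.X := by
    calc _ = bernoulli'PowerSeries (S m) * (PowerSeries.exp (S m) - 1) *
          rescale (-1 : S m) (PowerSeries.exp (S m)) := by
            rw [mul_assoc, sub_mul, h1, one_mul]
      _ = PowerSeries.X := by rw [bernoulli'PowerSeries_mul_exp_sub_one, mul_assoc, h1, mul_one]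
  have h3 := congrArg (rescale (MvPolynomial.X a : S m)) h2
  rw [map_mul, map_sub, map_one, rescale_X, rescale_rescale] at h3
  simpa [B, Y] using h3

/-- `c ↦ Σ_{k≤d} (-j)^k p_k / k!`. -/
def Fq (j : ℕ) : MvPolynomial (Fin m) ℚ :=
  (m : MvPolynomial (Fin m) ℚ) +
    ∑ k ∈ range d, ((-(j : ℚ)) ^ (k + 1) / ((k + 1).factorial : ℚ)) • gSeq (cVar m) (k + 1)

theorem gT_gSeq (k : ℕ) (hk : 1 ≤ k) : gT m (gSeq (cVar m) k) =
    ∑ a : Fin m, (PowerSeries.C (MvPolynomial.X a : S m) * PowerSeries.X) ^ k := by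
  change (gT m).toRingHom _ = _
  rw [map_gSeq _ (by simp [cVar]) k hk,
    show (gT m).toRingHom ∘ cVar m = fun i => (roots m).esymm i from funext fun i => gT_cVar m i,
    NewtonRel.p_unique (esymm_zero' _) (newtonRel_gSeq (esymm_zero' _)) (newtonRel_esymm (roots m)) k hk,
    roots, Multiset.map_map]
  rfl

theorem mk_gT_Fq (j : ℕ) : mk d m (gT m (Fq d m j)) = ∑ a : Fin m, mk d m (Y m a) ^ j := by
  let c : Fin m → ℕ → S m := fun a k =>
    algebraMap ℚ (S m) ((-(j : ℚ)) ^ k / (k.factorial : ℚ)) * (MvPolynomial.X a : S m) ^ k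
  have h : gT m (Fq d m j) = ∑ a : Fin m, ∑ k ∈ range (d + 1), PowerSeries.C (c a k) * PowerSeries.X ^ k := by
    simp only [Fq, map_add, map_natCast, map_sum, map_smul, Finset.sum_range_succ' _ d, Finset.sum_add_distrib]
    rw [add_comm, Finset.sum_comm]
    congr 1
    · refine Finset.sum_congr rfl fun k _ => ?_
      rw [gT_gSeq m (k + 1) (by omega), Finset.smul_sum]
      refine Finset.sum_congr rfl fun a _ => ?_
      simp [c, Algebra.smul_def, PowerSeries.algebraMap_apply, mul_pow, mul_assoc]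
    · simp [c]
  rw [h, map_sum]
  refine Finset.sum_congr rfl fun a _ => ?_
  rw [← map_pow]
  refine mk_congr d m fun n hn => ?_
  rw [coeff_trunc_sum d m (c a) n hn, Y, ← map_pow, exp_pow_eq_rescale_exp, coeff_rescale, coeff_rescale, coeff_exp]
  simp only [c, div_eq_mul_inv, map_mul, map_pow, map_neg, map_natCast, one_mul]
  rw [show (-(j : S m)) ^ n = (-1) ^ n * (j : S m) ^ n by rw [← mul_pow]; ring,
    show (-(MvPolynomial.X a : S m)) ^ n = (-1) ^ n * (MvPolynomial.X a : S m) ^ n by rw [← mul_pow]; ring]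
  ring

/-- The exterior powers of the dual. -/
def Eq' (i : ℕ) : MvPolynomial (Fin m) ℚ := fSeq (Fq d m) i

theorem mk_gT_Eq (i : ℕ) : mk d m (gT m (Eq' d m i)) =
    ((Finset.univ : Finset (Fin m)).val.map fun a => mk d m (Y m a)).esymm i := by
  change ((mk d m).comp (gT m).toRingHom) (fSeq (Fq d m) i) = _
  rw [map_fSeq, fSeq_eq (R := PowerSeries (S m) ⧸ _) (esymm_zero' _)
    (newtonRel_esymm ((Finset.univ : Finset (Fin m)).val.map fun a => mk d m (Y m a))) i]
  refine fSeq_congr fun k _ _ => ?_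
  rw [Multiset.map_map]
  exact mk_gT_Fq d m k

/-- `λ₋₁` of the dual. -/
def altQ : MvPolynomial (Fin m) ℚ := ∑ i ∈ range (m + 1), (-1) ^ i * Eq' d m i

theorem mk_gT_alt : mk d m (gT m (altQ d m)) = mk d m (∏ a : Fin m, (1 - Y m a)) := by
  have hc : ((Finset.univ : Finset (Fin m)).val.map fun a => mk d m (Y m a)).card = m := by simp
  have h := sum_alt_esymm ((Finset.univ : Finset (Fin m)).val.map fun a => mk d m (Y m a))
  rw [hc, Multiset.map_map] at h
  simp only [altQ, map_sum, map_mul, map_pow, map_neg, map_one, mk_gT_Eq]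
  rw [h, map_prod]
  simp only [map_sub, map_one]
  rfl

/-- Restriction from `d` to `m` variables. -/
def resQ : MvPolynomial (Fin d) ℚ →ₐ[ℚ] MvPolynomial (Fin m) ℚ := MvPolynomial.aeval fun i : Fin d => cVar m (i + 1)

theorem mk_gT_todd (k : ℕ) (hd : d = m + k) :
    mk d m (gT m (resQ d m (KGr.toddPoly d))) = mk d m (∏ a : Fin m, B m a) := by
  subst hd
  let v : Fin (m + k) → PowerSeries (S m) :=
    Fin.append (fun a => PowerSeries.C (MvPolynomial.X a : S m) * PowerSeries.X) fun _ => 0
  let φ : MvPolynomial (Fin (m + k)) ℚ →ₐ[ℚ] PowerSeries (S m) := MvPolynomial.aeval v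
  have hv : (Finset.univ : Finset (Fin (m + k))).val.map v = roots m + Multiset.replicate k 0 := by
    rw [Fin.univ_val_map, List.ofFn_fin_append, ← Multiset.coe_add, ← Fin.univ_val_map, roots,
      List.ofFn_const, Multiset.coe_replicate]
  have h0 : ∀ (k : ℕ) (i : ℕ), (roots m + Multiset.replicate k 0).esymm i = (roots m).esymm i := by
    intro k
    induction k with
    | zero => simp
    | succ k ih =>
      intro i
      rw [Multiset.replicate_succ, Multiset.add_cons]
      cases i with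
      | zero => rw [esymm_zero', esymm_zero']
      | succ i => rw [esymm_cons_succ, ih (i + 1), zero_mul, add_zero]
  have hφ : (gT m).comp (resQ (m + k) m) = φ.comp (MvPolynomial.aeval fun i : Fin (m + k) =>
      MvPolynomial.esymm (Fin (m + k)) ℚ (i + 1)) := by
    refine MvPolynomial.algHom_ext fun i => ?_
    rw [AlgHom.comp_apply, AlgHom.comp_apply, resQ, MvPolynomial.aeval_X, MvPolynomial.aeval_X, gT_cVar,
      MvPolynomial.esymm_eq_multiset_esymm]
    refine Eq.trans ?_ (map_multiset_esymm φ.toRingHom _ _).symm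
    rw [Multiset.map_map, show ⇑φ.toRingHom ∘ MvPolynomial.X = v from funext fun a => MvPolynomial.aeval_X _ _,
      hv, h0]
  have hT : gT m (resQ (m + k) m (KGr.toddPoly (m + k))) = φ (∏ i : Fin (m + k),
      Polynomial.aeval (MvPolynomial.X i : MvPolynomial (Fin (m + k)) ℚ) (KGr.toddTrunc (m + k))) := by
    rw [← AlgHom.comp_apply, hφ, AlgHom.comp_apply]
    congr 1
    rw [← MvPolynomial.esymmAlgHom_apply]
    exact congrArg Subtype.val (AlgEquiv.apply_symm_apply
      (MvPolynomial.esymmAlgEquiv (Fin (m + k)) ℚ (Fintype.card_fin (m + k))) _)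
  rw [hT, map_prod, Fin.prod_univ_add]
  have hz : ∀ i : Fin k, φ (Polynomial.aeval (MvPolynomial.X (Fin.natAdd m i) : MvPolynomial (Fin (m + k)) ℚ)
      (KGr.toddTrunc (m + k))) = 1 := fun i => by
    rw [← Polynomial.aeval_algHom_apply, MvPolynomial.aeval_X]
    simp [v, KGr.toddTrunc, Finset.sum_range_succ', bernoulli'_zero]
  rw [Finset.prod_eq_one (s := (Finset.univ : Finset (Fin k))) fun i _ => hz i, mul_one, map_prod, map_prod]
  refine Finset.prod_congr rfl fun a _ => ?_
  rw [← Polynomial.aeval_algHom_apply, MvPolynomial.aeval_X]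
  refine mk_congr _ _ fun n hn => ?_
  let c : ℕ → S m := fun l => algebraMap ℚ (S m) (bernoulli' l / (l.factorial : ℚ)) * (MvPolynomial.X a : S m) ^ l
  have he : Polynomial.aeval (v (Fin.castAdd k a)) (KGr.toddTrunc (m + k)) =
      ∑ l ∈ range (m + k + 1), PowerSeries.C (c l) * PowerSeries.X ^ l := by
    simp [v, c, KGr.toddTrunc, mul_pow, PowerSeries.algebraMap_apply, mul_assoc]
  rw [he, coeff_trunc_sum _ _ c n hn, B, coeff_rescale, bernoulli'PowerSeries, coeff_mk]
  simp [c, mul_comm]

/-- The universal identity. -/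
theorem mk_key (k : ℕ) (hd : d = m + k) (hm : 1 ≤ m) :
    mk d m (gT m (resQ d m (KGr.toddPoly d) * altQ d m)) = mk d m (gT m (cVar m m)) := by
  rw [map_mul, map_mul, mk_gT_todd d m k hd, mk_gT_alt, ← map_mul, ← Finset.prod_mul_distrib,
    gT_cVar, roots]
  simp only [B_mul_one_sub_Y]
  have e := esymm_card ((Finset.univ : Finset (Fin m)).val.map fun a => PowerSeries.C (MvPolynomial.X a : S m) * PowerSeries.X)
  rw [Multiset.card_map, show (Finset.univ : Finset (Fin m)).val.card = m from Finset.card_fin m] at e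
  rw [e]
  rfl

theorem mk_alt_eq_zero (hdm : d < m) : mk d m (gT m (altQ d m)) = 0 := by
  rw [mk_gT_alt, Ideal.Quotient.eq_zero_iff_mem, Ideal.mem_span_singleton]
  have h : ∀ a : Fin m, (PowerSeries.X : PowerSeries (S m)) ∣ 1 - Y m a := fun a => by
    rw [PowerSeries.X_dvd_iff, ← coeff_zero_eq_constantCoeff_apply, map_sub, Y, coeff_rescale]
    simp
  refine dvd_trans ?_ (Finset.prod_dvd_prod_of_dvd _ _ fun a _ => h a)
  rw [Finset.prod_const, Finset.card_univ, Fintype.card_fin]
  exact pow_dvd_pow _ hdm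

end Groth.Agent.KGrInvLib
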